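import Cfsg.Agent.Omega.OmThm.Fac
import Cfsg.Agent.Mrg.Omega.NO3b.EZeroBase
import Cfsg.Agent.Mrg.Omega.Assembly


/-!
# THEOREM OM, section 3: two noncentral chief factors

`X = O²(X) S`, `S` a 2-group, `U` an elementary abelian subgroup normalised by `S`, `W = ⟨U^X⟩` elementary abelian,
`Q = O₂(X) ≤ S`.

* `NoOv X W` : no over-offender in the noncentral sections of `W` (a consequence of the FF theorem);
* `XD` : the data; `XD.one`: `[W, O²(X)] ≰ [W, Q]`;
* `XD.sq_le` : if `O²(X)` does not centralise `[W, Q]`, then `|E : E ∩ Q|² ≤ |W : C_W(E)|` for every elementary abelian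
  2-subgroup `E` of `X`.
-/

set_option autoImplicit false

namespace Cfsg.Agent.Omega.OmThm

open Subgroup Cfsg.Agent.Omega.NoFF.Basic Cfsg.Agent.ZN Cfsg.Agent.MinSimple.VModule
open scoped Pointwise commutatorElement

variable {G : Type*} [Group G] {S X U : Subgroup G}

/-- No over-offender in the noncentral `X`-invariant sections `C / A` of `W`: if `E ≤ X` is elementary abelian and
`[K, E] ≤ A`, `A ≤ K ≤ C`, then `|E : E ∩ O₂(X)| ≤ |C : K|`. -/
def NoOv (X W : Subgroup G) : Prop :=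
  ∀ A C K E : Subgroup G, A ≤ K → K ≤ C → C ≤ W → X ≤ normalizer (A : Set G) → X ≤ normalizer (C : Set G) →
    (∃ c ∈ C, ∃ x ∈ oddGen X, c * x * c⁻¹ * x⁻¹ ∉ A) → E ≤ X → (∀ e ∈ E, e * e = 1) →
    (∀ b ∈ K, ∀ e ∈ E, b * e * b⁻¹ * e⁻¹ ∈ A) → (o2 X).relIndex E ≤ K.relIndex C

/-- `X = O²(X) S`, `S` a 2-group which normalises `U`, `O₂(X) ≤ S`, `W = ⟨U^X⟩` elementary abelian. -/
structure XD (S X U : Subgroup G) : Prop where
  S2 : IsPGroup 2 S
  SX : S ≤ X
  gen : X ≤ oddGen X ⊔ S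
  QS : o2 X ≤ S
  SU : S ≤ normalizer (U : Set G)
  comm : ∀ x ∈ V U X, ∀ y ∈ V U X, x * y = y * x
  sq : ∀ x ∈ V U X, x * x = 1
  nU : ¬ X ≤ normalizer (U : Set G)

namespace XD

variable (D : XD S X U)
include D

omit D in
theorem X_le_normalizer_W : X ≤ normalizer (V U X : Set G) := by
  intro x hx
  rw [← conj_eq_iff]
  have := conj_V_mul (Z := U) (P := X) (g := 1) hx
  rwa [one_mul, map_one, one_smul] at this

omit D in
theorem U_le_W : U ≤ V U X := by
  have := Z_le_V (Z := U) (P := X) X.one_mem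
  rwa [map_one, one_smul] at this

theorem W2 : IsPGroup 2 (V U X) := by
  intro g
  refine ⟨1, Subtype.ext ?_⟩
  have := D.sq _ g.2
  simp only [pow_one, Subgroup.coe_pow, Subgroup.coe_one]
  rw [pow_two]
  exact this

theorem QX : o2 X ≤ X := D.QS.trans D.SX

omit D in
theorem comm_le_W (D : XD S X U) : ⁅V U X, o2 X⁆ ≤ V U X :=
  (le_normalizer_iff_commutator_le_left).1 (D.QX.trans X_le_normalizer_W)

omit D in
theorem X_le_normalizer_comm : X ≤ normalizer ((⁅V U X, o2 X⁆ : Subgroup G) : Set G) := by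
  intro s hs
  have h1 := (X_le_normalizer_W (U := U)) hs
  have h2 := (le_normalizer_o2 X) hs
  rw [mem_normalizer_iff_map_conj_eq] at h1 h2 ⊢
  rw [map_commutator, h1, h2]

/-- `X` normalises what `O²(X)` and `S` normalise. -/
theorem le_nor {A : Subgroup G} (h1 : oddGen X ≤ normalizer (A : Set G)) (h2 : S ≤ normalizer (A : Set G)) :
    X ≤ normalizer (A : Set G) := D.gen.trans (sup_le h1 h2)

/-- `[W, O²(X)] ≰ [W, Q]`. -/
theorem one [Finite G] : ∃ c ∈ V U X, ∃ x ∈ oddGen X, c * x * c⁻¹ * x⁻¹ ∉ (⁅V U X, o2 X⁆ : Subgroup G) := by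
  by_contra hcon
  push Not at hcon
  set W := V U X with hW
  set N : Subgroup G := ⁅W, o2 X⁆ with hN
  have hXW : X ≤ normalizer (W : Set G) := X_le_normalizer_W
  have hXN : X ≤ normalizer (N : Set G) := X_le_normalizer_comm
  have hNW : N ≤ W := D.comm_le_W
  have hUW : U ≤ W := U_le_W
  -- `X` normalises `U N`
  have h1 : X ≤ normalizer ((U ⊔ N : Subgroup G) : Set G) := by
    refine D.le_nor (fun x hx => ?_) (fun s hs => ?_)
    · have key : ∀ x ∈ oddGen X, ∀ y ∈ U ⊔ N, x * y * x⁻¹ ∈ U ⊔ N := by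
        intro x hx y hy
        have hyW : y ∈ W := (sup_le hUW hNW) hy
        have h2 := hcon y⁻¹ (inv_mem hyW) x hx
        have h3 : x * y * x⁻¹ = y * (y⁻¹ * x * y⁻¹⁻¹ * x⁻¹) := by group
        rw [h3]
        exact mul_mem hy (mem_sup_right h2)
      rw [mem_normalizer_iff]
      intro y
      refine ⟨key x hx y, fun h2 => ?_⟩
      have h3 := key x⁻¹ (inv_mem hx) _ h2
      have h4 : x⁻¹ * (x * y * x⁻¹) * x⁻¹⁻¹ = y := by group
      rwa [h4] at h3
    · have h2 := D.SU hs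
      have h3 := hXN (D.SX hs)
      rw [mem_normalizer_iff_map_conj_eq] at h2 h3 ⊢
      rw [Subgroup.map_sup, h2, h3]
  have h2 : W ≤ U ⊔ N := V_le fun p hp => by
    have h3 := h1 hp
    rw [← conj_eq_iff] at h3
    rw [← h3]
    exact conj_le_iff.2 le_sup_left
  have h3 : W ≤ U := NO3b.CTwo.le_of_le_sup_commutator (D.S2.to_le D.QS) D.comm D.W2 (D.QX.trans hXW)
    (D.QS.trans D.SU) hUW h2
  exact D.nU ((le_antisymm h3 hUW) ▸ hXW)

/-- **(3.a)** If `O²(X)` does not centralise `[W, Q]`, then `|E : E ∩ Q|² ≤ |W : C_W(E)|`. -/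
theorem sq_le [Finite G] (hno : NoOv X (V U X)) (h2 : ∃ c ∈ (⁅V U X, o2 X⁆ : Subgroup G), ∃ x ∈ oddGen X, c * x ≠ x * c)
    {E : Subgroup G} (hEX : E ≤ X) (hE : ∀ e ∈ E, e * e = 1) :
    (o2 X).relIndex E * (o2 X).relIndex E ≤ (centralizer (E : Set G)).relIndex (V U X) := by
  set W := V U X with hW
  set N : Subgroup G := ⁅W, o2 X⁆ with hN
  have hNW : N ≤ W := D.comm_le_W
  set C : Subgroup G := centralizer (E : Set G) ⊓ W with hC
  have hCW : C ≤ W := inf_le_right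
  have hCE : ∀ b ∈ C, ∀ e ∈ E, b * e * b⁻¹ * e⁻¹ = 1 := by
    intro b hb e he
    have := mem_centralizer_iff.1 hb.1 e he
    rw [← this]; group
  have e1 : (o2 X).relIndex E ≤ (C ⊔ N).relIndex W := by
    refine hno N W (C ⊔ N) E le_sup_right (sup_le hCW hNW) le_rfl X_le_normalizer_comm X_le_normalizer_W D.one
      hEX hE ?_
    intro b hb e he
    have hb' : b ∈ ((C ⊔ N : Subgroup G) : Set G) := hb
    rw [coe_mul_of_left_le_normalizer_right C N (fun c hc => by
      rw [mem_normalizer_iff_conj_image_eq]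
      ext y
      constructor
      · rintro ⟨z, hz, rfl⟩
        have h3 : MulAut.conj c z = z := by
          rw [MulAut.conj_apply, D.comm c (hCW hc) z (hNW hz), mul_inv_cancel_right]
        rw [h3]; exact hz
      · intro hy
        refine ⟨y, hy, ?_⟩
        rw [MulAut.conj_apply, D.comm c (hCW hc) y (hNW hy), mul_inv_cancel_right])] at hb'
    obtain ⟨c, hc, n, hn, rfl⟩ := Set.mem_mul.1 hb'
    have h3 : n * e * n⁻¹ * e⁻¹ ∈ N := by
      have : n * e * n⁻¹ * e⁻¹ = n * (e * n⁻¹ * e⁻¹) := by group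
      rw [this]
      exact mul_mem hn ((mem_normalizer_iff.1 (X_le_normalizer_comm (hEX he)) _).1 (inv_mem hn))
    have h4 : c * n * e * (c * n)⁻¹ * e⁻¹ = c * (n * e * n⁻¹ * e⁻¹) * c⁻¹ * (c * e * c⁻¹ * e⁻¹) := by
      have h5 : e * c⁻¹ = c⁻¹ * e := by
        have := hCE c⁻¹ (inv_mem hc) e he
        rw [mul_inv_eq_one, mul_inv_eq_iff_eq_mul] at this
        exact this.symm
      have h6 : c * e * c⁻¹ * e⁻¹ = 1 := hCE c hc e he
      rw [h6, mul_one]
      calc c * n * e * (c * n)⁻¹ * e⁻¹ = c * n * e * n⁻¹ * (e⁻¹ * (e * c⁻¹)) * e⁻¹ := by group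
        _ = c * n * e * n⁻¹ * (e⁻¹ * (c⁻¹ * e)) * e⁻¹ := by rw [h5]
        _ = c * n * e * n⁻¹ * e⁻¹ * c⁻¹ := by group
        _ = c * (n * e * n⁻¹ * e⁻¹) * c⁻¹ := by group
    rw [h4, hCE c hc e he, mul_one, D.comm c (hCW hc) _ (hNW h3), mul_inv_cancel_right]
    exact h3
  have e2 : (o2 X).relIndex E ≤ C.relIndex N := by
    have h3 : C.relIndex N = (C ⊓ N).relIndex N := (inf_relIndex_right ..).symm
    rw [h3]
    refine hno ⊥ N (C ⊓ N) E bot_le inf_le_right hNW (fun x _ => by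
        rw [mem_normalizer_iff]; intro y; simp [mem_bot]) X_le_normalizer_comm ?_ hEX hE ?_
    · obtain ⟨c, hc, x, hx, hne⟩ := h2
      refine ⟨c, hc, x, hx, fun h4 => hne ?_⟩
      rw [mem_bot, mul_inv_eq_one, mul_inv_eq_iff_eq_mul] at h4
      exact h4
    · intro b hb e he
      rw [mem_bot]
      exact hCE b hb.1 e he
  have e3 : C.relIndex W = C.relIndex (C ⊔ N) * (C ⊔ N).relIndex W :=
    (relIndex_mul_relIndex C (C ⊔ N) W le_sup_left (sup_le hCW hNW)).symm
  have e4 : C.relIndex N ≤ C.relIndex (C ⊔ N) := relIndex_le_of_le_right le_sup_right (relIndex_ne _ _)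
  have e5 : (centralizer (E : Set G)).relIndex W = C.relIndex W := (inf_relIndex_right ..).symm
  rw [e5, e3]
  exact Nat.mul_le_mul (e2.trans e4) e1

end XD

end Cfsg.Agent.Omega.OmThm
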