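import Cfsg.Agent.Mrg.Omega.OmThm.Two
import Cfsg.Agent.Mrg.Omega.FFBr.Final

section


/-!
# THEOREM OM: no over-offender in the noncentral sections (`NoOv`)

* `noOver_of_irr` : `X` finite with a unique maximal subgroup over its Sylow 2-subgroup `T`, `φ : X →* Aut(V)` an
  irreducible action on an elementary abelian 2-group with an element of odd order acting nontrivially: then
  `|E : E ∩ O₂(X)| ≤ |V : C_V(E)|` for every elementary abelian 2-subgroup `E` of `X`  (from `FFBr.aStmt`);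
* `noOv` : `NoOv X W` for `IsMinPar T X` and `W` elementary abelian normalised by `X`.
-/

set_option autoImplicit false

namespace Cfsg.Agent.Omega.OmThm

open Subgroup Cfsg.Agent.ZN Cfsg.Agent.Omega.FFBr
open Cfsg.Agent.MinSimple.MinParabolic (IsMin IsMinPar)
open Cfsg.Agent.ClassTwoFusion.Quad (cv mem_cv)
open scoped Pointwise commutatorElement

universe u

section abs

variable {X V : Type u} [Group X] [Finite X] [Group V] [Finite V]

/-- The fixed points of the subgroup `E` of `X` on `V`. -/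
def fixV (φ : X →* MulAut V) (E : Subgroup X) : Subgroup V where
  carrier := {v | ∀ e ∈ E, φ e v = v}
  one_mem' := fun e _ => map_one (φ e)
  mul_mem' := fun {v w} hv hw e he => by rw [map_mul, hv e he, hw e he]
  inv_mem' := fun {v} hv e he => by rw [map_inv, hv e he]

omit [Finite X] [Finite V] in
theorem mem_fixV {φ : X →* MulAut V} {E : Subgroup X} {v : V} : v ∈ fixV φ E ↔ ∀ e ∈ E, φ e v = v := Iff.rfl

omit [Finite X] in
/-- A 2-group acting on a nontrivial 2-group has nontrivial fixed points. -/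
theorem exists_fixed_ne {Y : Type*} [Group Y] [MulDistribMulAction Y V] (hY : IsPGroup 2 Y) (hsq : ∀ v : V, v * v = 1)
    (hne : ∃ v : V, v ≠ 1) : ∃ v : V, v ≠ 1 ∧ ∀ y : Y, y • v = v := by
  have : Fact (Nat.Prime 2) := ⟨Nat.prime_two⟩
  have h2 : 2 ∣ Nat.card V := by
    obtain ⟨v, hv⟩ := hne
    have h1 : orderOf v = 2 := orderOf_eq_prime (by rw [pow_two]; exact hsq v) hv
    rw [← h1]
    exact orderOf_dvd_natCard v
  obtain ⟨b, hb, hb1⟩ := hY.exists_fixed_point_of_prime_dvd_card_of_fixed_point V h2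
    (show (1 : V) ∈ MulAction.fixedPoints Y V from fun y => smul_one y)
  exact ⟨b, hb1.symm, hb⟩

/-- **No over-offender for an irreducible action of a minimal parabolic.** -/
theorem noOver_of_irr (φ : X →* MulAut V) (hcomm : ∀ v w : V, v * w = w * v) (hsq : ∀ v : V, v * v = 1)
    (T : Sylow 2 X) (M : Subgroup X) (hM : IsMin (T : Subgroup X) M) (hTM : (T : Subgroup X) ≤ M)
    (irr : ∀ U : Subgroup V, (∀ x : X, ∀ u ∈ U, φ x u ∈ U) → U = ⊥ ∨ U = ⊤)
    (nt : ∃ x : X, Odd (orderOf x) ∧ φ x ≠ 1) (E : Subgroup X) (hE : ∀ a ∈ E, ∀ b ∈ E, a * b = b * a)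
    (hE2 : ∀ a ∈ E, a * a = 1) : (pCore 2 X).relIndex E ≤ (fixV φ E).index := by
  classical
  have f2 : Fact (Nat.Prime 2) := ⟨Nat.prime_two⟩
  obtain ⟨x₀, hx₀, hφ₀⟩ := nt
  obtain ⟨v₀, hv₀⟩ : ∃ v : V, φ x₀ v ≠ v := by
    by_contra hcon
    push Not at hcon
    exact hφ₀ (MulEquiv.ext hcon)
  have hVne : ∃ v : V, v ≠ 1 := ⟨v₀, fun h => hv₀ (by rw [h, map_one])⟩
  -- the image
  set Y : Subgroup (MulAut V) := φ.range with hY
  let r : X →* Y := φ.rangeRestrict
  have hr : Function.Surjective r := φ.rangeRestrict_surjective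
  have hsm : ∀ (x : X) (v : V), (r x • v : V) = φ x v := fun x v => rfl
  have hrk : ∀ x, r x = 1 ↔ φ x = 1 := fun x => by
    rw [← MonoidHom.mem_ker, ← MonoidHom.mem_ker, MonoidHom.ker_rangeRestrict]
  have irrY : ∀ U : Subgroup V, (∀ y : Y, ∀ u ∈ U, (y • u : V) ∈ U) → U = ⊥ ∨ U = ⊤ := by
    intro U hU
    exact irr U fun x u hu => hU (r x) u hu
  -- `N T ≠ X` for `N = C_X(V)`
  have hker : r.ker ⊔ (T : Subgroup X) ≠ ⊤ := by
    intro h
    apply hφ₀
    rw [← hrk]
    have h1 : r x₀ ∈ (T : Subgroup X).map r := by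
      have h2 : x₀ ∈ r.ker ⊔ (T : Subgroup X) := h ▸ mem_top x₀
      have h3 := mem_map_of_mem r h2
      rw [Subgroup.map_sup] at h3
      have h4 : r.ker.map r = ⊥ := (Subgroup.map_eq_bot_iff _).2 le_rfl
      rwa [h4, bot_sup_eq] at h3
    obtain ⟨k, hk⟩ := (T.isPGroup'.map r) ⟨r x₀, h1⟩
    have hk' : (r x₀) ^ 2 ^ k = 1 := by
      have := congrArg Subtype.val hk
      simpa using this
    have h5 : orderOf (r x₀) ∣ 2 ^ k := orderOf_dvd_of_pow_eq_one hk'
    have h6 : orderOf (r x₀) ∣ orderOf x₀ := orderOf_map_dvd r x₀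
    have h7 : Nat.Coprime (orderOf x₀) (2 ^ k) := Nat.Coprime.pow_right k (Nat.coprime_two_right.2 hx₀)
    exact orderOf_eq_one_iff.1 (Nat.dvd_one.1 (h7 ▸ Nat.dvd_gcd h6 h5))
  have hkerM : r.ker ≤ M := le_sup_left.trans (hM.le_of _ le_sup_right hker)
  -- the abstract situation
  have hAbs : Abs Y V (T.mapSurjective hr) (M.map r) := by
    refine ⟨hcomm, hsq, fun y hy => ?_, fun N hN hN2 => ?_, ?_, ?_, fun K hK => ?_, fun W hW => ?_, ?_⟩
    · exact Subtype.ext (MulEquiv.ext hy)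
    · -- `O₂(Y) = 1`
      obtain ⟨v, hv1, hv⟩ := exists_fixed_ne (Y := N) hN2 hsq hVne
      have h1 : cv V (N : Set Y) = ⊥ ∨ cv V (N : Set Y) = ⊤ := by
        refine irrY _ fun y u hu => ?_
        rw [mem_cv] at hu ⊢
        intro a ha
        have h2 : y⁻¹ * a * y ∈ N := by
          have := hN.conj_mem a ha y⁻¹
          rwa [inv_inv] at this
        have h3 := hu _ h2
        calc a • y • u = y • (y⁻¹ * a * y) • u := by rw [← mul_smul, ← mul_smul]; congr 1; group
          _ = y • u := by rw [h3]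
      rcases h1 with h1 | h1
      · exfalso
        apply hv1
        rw [← mem_bot, ← h1, mem_cv]
        exact fun a ha => hv ⟨a, ha⟩
      · rw [eq_bot_iff]
        intro a ha
        rw [mem_bot]
        apply Subtype.ext
        apply MulEquiv.ext
        intro w
        have h2 : w ∈ cv V (N : Set Y) := h1 ▸ mem_top w
        exact h2 a ha
    · exact Subgroup.map_mono hTM
    · intro h
      apply hM.ne_top
      rw [eq_top_iff]
      have h1 := congrArg (Subgroup.comap r) h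
      rw [Subgroup.comap_map_eq, Subgroup.comap_top, sup_eq_left.2 hkerM] at h1
      exact h1.ge
    · by_cases h : K.comap r = ⊤
      · right
        rw [← Subgroup.map_comap_eq_self_of_surjective hr K, h]
        exact Subgroup.map_top_of_surjective r hr
      · left
        have h1 : (T : Subgroup X) ≤ K.comap r := by
          rw [← Subgroup.map_le_iff_le_comap]
          exact hK
        have h2 := hM.le_of _ h1 h
        rw [← Subgroup.map_comap_eq_self_of_surjective hr K]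
        exact Subgroup.map_mono h2
    · -- generation
      let U : Subgroup V := closure {w | ∃ v : V, (∀ t ∈ (T.mapSurjective hr : Subgroup Y), t • v = v) ∧
        ∃ y : Y, w = y • v}
      have hUW : U ≤ W := by
        rw [closure_le]
        rintro _ ⟨v, hv, y, rfl⟩
        exact hW v hv y
      have hT2 : IsPGroup 2 (T.mapSurjective hr : Subgroup Y) := (T.mapSurjective hr).isPGroup'
      obtain ⟨v, hv1, hv⟩ := exists_fixed_ne (Y := (T.mapSurjective hr : Subgroup Y)) hT2 hsq hVne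
      have hU : U = ⊥ ∨ U = ⊤ := by
        refine irrY _ fun y u hu => ?_
        induction hu using closure_induction with
        | mem w hw =>
          obtain ⟨v, hv, z, rfl⟩ := hw
          exact subset_closure ⟨v, hv, y * z, by rw [mul_smul]⟩
        | one => rw [smul_one]; exact one_mem _
        | mul a b _ _ ha hb => rw [smul_mul']; exact mul_mem ha hb
        | inv a _ ha => rw [smul_inv']; exact inv_mem ha
      rcases hU with hU | hU
      · exfalso
        apply hv1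
        rw [← mem_bot, ← hU]
        exact subset_closure ⟨v, fun t ht => hv ⟨t, ht⟩, 1, by rw [one_smul]⟩
      · exact eq_top_iff.2 (hU ▸ hUW)
    · -- not fixed
      by_contra hcon
      push Not at hcon
      have hT2 : IsPGroup 2 (T.mapSurjective hr : Subgroup Y) := (T.mapSurjective hr).isPGroup'
      obtain ⟨v, hv1, hv⟩ := exists_fixed_ne (Y := (T.mapSurjective hr : Subgroup Y)) hT2 hsq hVne
      have hvY : ∀ y : Y, y • v = v := hcon v fun t ht => hv ⟨t, ht⟩
      have h1 : cv V (Set.univ : Set Y) = ⊥ ∨ cv V (Set.univ : Set Y) = ⊤ := by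
        refine irrY _ fun y u hu => ?_
        rw [mem_cv] at hu ⊢
        intro a _
        rw [hu y (Set.mem_univ _), hu a (Set.mem_univ _)]
      rcases h1 with h1 | h1
      · apply hv1
        rw [← mem_bot, ← h1, mem_cv]
        exact fun a _ => hvY a
      · apply hv₀
        have h2 : v₀ ∈ cv V (Set.univ : Set Y) := h1 ▸ mem_top v₀
        exact h2 (r x₀) (Set.mem_univ _)
  -- no over-offender
  have hno : ANoOver Y V := by
    by_cases ho : ∃ A : Subgroup Y, AOff V A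
    · exact (aStmt Y V _ _ hAbs ho).1
    · intro A hA hA2
      by_contra hlt
      push Not at hlt
      refine ho ⟨A, hA, hA2, ?_, hlt.le⟩
      rintro rfl
      rw [Subgroup.card_bot] at hlt
      have := Nat.pos_of_ne_zero (Subgroup.index_ne_zero_of_finite (H := cv V ((⊥ : Subgroup Y) : Set Y)))
      omega
  have h1 := hno (E.map r) (by
    rintro _ ⟨a, ha, rfl⟩ _ ⟨b, hb, rfl⟩
    rw [← map_mul, hE a ha b hb, map_mul]) (by
    rintro _ ⟨a, ha, rfl⟩
    rw [← map_mul, hE2 a ha, map_one])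
  have h2 : cv V ((E.map r : Subgroup Y) : Set Y) = fixV φ E := by
    ext v
    rw [mem_cv, mem_fixV]
    constructor
    · intro h e he
      exact h (r e) ⟨e, he, rfl⟩
    · rintro h _ ⟨e, he, rfl⟩
      exact h e he
  rw [h2] at h1
  refine le_trans ?_ h1
  -- `E ∩ C_X(V) ≤ O₂(X)`
  have hE2' : IsPGroup 2 E := fun e => ⟨1, Subtype.ext (by
    simp only [pow_one, Subgroup.coe_pow, Subgroup.coe_one]; rw [pow_two]; exact hE2 e e.2)⟩
  have hTk : (T : Subgroup X) ⊓ r.ker ≤ pCore 2 X :=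
    (MinSimple.MinParabolic.sup_eq_top_or_inf_le hM r.ker).resolve_left hker
  have hEk : E ⊓ r.ker ≤ pCore 2 X := by
    obtain ⟨Q, hQ⟩ := hE2'.exists_le_sylow
    obtain ⟨g, hg⟩ := MulAction.exists_smul_eq X T Q
    rintro e ⟨he, hek⟩
    have h3 : e ∈ (Q : Subgroup X) := hQ he
    rw [← hg, Sylow.coe_subgroup_smul, mem_pointwise_smul_iff_inv_smul_mem, MulAut.smul_def, ← map_inv,
      MulAut.conj_apply, inv_inv] at h3
    have h4 : g⁻¹ * e * g ∈ r.ker := by
      have := (inferInstance : r.ker.Normal).conj_mem e hek g⁻¹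
      rwa [inv_inv] at this
    have hn : (pCore 2 X).Normal := Lib.Cores.pCore_normal 2
    have h5 := hn.conj_mem _ (hTk ⟨h3, h4⟩) g
    rwa [show g * (g⁻¹ * e * g) * g⁻¹ = e from by group] at h5
  have h3 : (pCore 2 X).relIndex E ≤ r.ker.relIndex E := by
    rw [← inf_relIndex_left E r.ker]
    exact relIndex_le_of_le_left hEk (Subgroup.index_ne_zero_of_finite)
  rw [relIndex_ker] at h3
  exact h3

/-- The action on a quotient. -/
def qAct {X D : Type*} [Group X] [Group D] (f : X →* MulAut D) (N : Subgroup D) [N.Normal]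
    (hN : ∀ x, N.map (f x).toMonoidHom = N) : X →* MulAut (D ⧸ N) where
  toFun x := QuotientGroup.congr N N (f x) (hN x)
  map_one' := by
    apply MulEquiv.ext
    intro q
    induction q using QuotientGroup.induction_on with
    | H d =>
      change ((f 1 d : D) : D ⧸ N) = (d : D ⧸ N)
      rw [map_one]
      rfl
  map_mul' x y := by
    apply MulEquiv.ext
    intro q
    induction q using QuotientGroup.induction_on with
    | H d =>
      change ((f (x * y) d : D) : D ⧸ N) = ((f x (f y d) : D) : D ⧸ N)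
      rw [map_mul]
      rfl

theorem qAct_mk {X D : Type*} [Group X] [Group D] (f : X →* MulAut D) (N : Subgroup D) [N.Normal]
    (hN : ∀ x, N.map (f x).toMonoidHom = N) (x : X) (d : D) :
    qAct f N hN x (d : D ⧸ N) = ((f x d : D) : D ⧸ N) := rfl

end abs

section main

variable {G : Type u} [Group G]

/-- `y ∈ X` centralises `C / A`. -/
def Cen (X A C : Subgroup G) (y : G) : Prop := y ∈ X ∧ ∀ c ∈ C, c * y * c⁻¹ * y⁻¹ ∈ A

theorem cen_mul {X A C : Subgroup G} (hA : X ≤ normalizer (A : Set G)) {x y : G} (hx : Cen X A C x)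
    (hy : Cen X A C y) : Cen X A C (x * y) := by
  refine ⟨mul_mem hx.1 hy.1, fun c hc => ?_⟩
  have e : c * (x * y) * c⁻¹ * (x * y)⁻¹ = (c * x * c⁻¹ * x⁻¹) * (x * (c * y * c⁻¹ * y⁻¹) * x⁻¹) := by group
  rw [e]
  exact mul_mem (hx.2 c hc) ((mem_normalizer_iff.1 (hA hx.1) _).1 (hy.2 c hc))

theorem cen_inv {X A C : Subgroup G} (hA : X ≤ normalizer (A : Set G)) {x : G} (hx : Cen X A C x) :
    Cen X A C x⁻¹ := by
  refine ⟨inv_mem hx.1, fun c hc => ?_⟩
  have e : c * x⁻¹ * c⁻¹ * x⁻¹⁻¹ = x⁻¹ * (c * x * c⁻¹ * x⁻¹)⁻¹ * x⁻¹⁻¹ := by group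
  rw [e]
  exact (mem_normalizer_iff.1 (hA (inv_mem hx.1)) _).1 (inv_mem (hx.2 c hc))

theorem cen_one {X A C : Subgroup G} : Cen X A C 1 :=
  ⟨one_mem X, fun c _ => by rw [mul_one, mul_inv_cancel, inv_one, mul_one]; exact one_mem A⟩

theorem cen_pow {X A C : Subgroup G} (hA : X ≤ normalizer (A : Set G)) {x : G} (hx : Cen X A C x) (k : ℕ) :
    Cen X A C (x ^ k) := by
  induction k with
  | zero => rw [pow_zero]; exact cen_one
  | succ k ih => rw [pow_succ]; exact cen_mul hA ih hx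

/-- Some element of odd order of `X` acts nontrivially on `C / A`. -/
theorem exists_odd_of {X A C : Subgroup G} (hA : X ≤ normalizer (A : Set G))
    (h : ∃ c ∈ C, ∃ x ∈ MinSimple.VModule.oddGen X, c * x * c⁻¹ * x⁻¹ ∉ A) :
    ∃ x ∈ X, Odd (orderOf x) ∧ ∃ c ∈ C, c * x * c⁻¹ * x⁻¹ ∉ A := by
  by_contra hcon
  push Not at hcon
  obtain ⟨c, hc, x, hx, hcx⟩ := h
  apply hcx
  have key : ∀ y ∈ MinSimple.VModule.oddGen X, Cen X A C y := by
    intro y hy
    rw [MinSimple.VModule.oddGen_def] at hy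
    induction hy using closure_induction with
    | mem y hy => exact ⟨hy.1, fun c hc => hcon y hy.1 hy.2 c hc⟩
    | one => exact cen_one
    | mul a b _ _ ha hb => exact cen_mul hA ha hb
    | inv a _ ha => exact cen_inv hA ha
  exact (key x hx).2 c hc

/-- The minimal pairs `(A₁, C₁)`. -/
structure MPair (X A C A₁ C₁ : Subgroup G) : Prop where
  le1 : A ≤ A₁
  le2 : A₁ ≤ C₁
  le3 : C₁ ≤ C
  n1 : X ≤ normalizer (A₁ : Set G)
  n2 : X ≤ normalizer (C₁ : Set G)
  nt : ∃ x ∈ X, Odd (orderOf x) ∧ ∃ c ∈ C₁, c * x * c⁻¹ * x⁻¹ ∉ A₁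

theorem exists_min [Finite G] {X A C : Subgroup G} (h : MPair X A C A C) :
    ∃ A₁ C₁, MPair X A C A₁ C₁ ∧ ∀ A₂ C₂, MPair X A C A₂ C₂ → A₁.relIndex C₁ ≤ A₂.relIndex C₂ := by
  classical
  have hex : ∃ n, ∃ A₁ C₁, MPair X A C A₁ C₁ ∧ A₁.relIndex C₁ = n := ⟨_, A, C, h, rfl⟩
  obtain ⟨A₁, C₁, h1, h2⟩ := Nat.find_spec hex
  exact ⟨A₁, C₁, h1, fun A₂ C₂ h3 => by
    rw [h2]
    exact Nat.find_min' hex ⟨A₂, C₂, h3, rfl⟩⟩

/-- In a minimal pair the section is irreducible. -/
theorem irr_of_min [Finite G] {X A C A₁ C₁ W : Subgroup G} (hW2 : ∀ x ∈ W, x * x = 1) (hCW : C ≤ W) (h : MPair X A C A₁ C₁)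
    (hmin : ∀ A₂ C₂, MPair X A C A₂ C₂ → A₁.relIndex C₁ ≤ A₂.relIndex C₂) {B : Subgroup G} (hB1 : A₁ ≤ B)
    (hB2 : B ≤ C₁) (hBn : X ≤ normalizer (B : Set G)) : B = A₁ ∨ B = C₁ := by
  by_contra hcon
  push Not at hcon
  obtain ⟨hne1, hne2⟩ := hcon
  have hpos : ∀ H K : Subgroup G, 0 < H.relIndex K := fun H K =>
    Nat.pos_of_ne_zero Subgroup.index_ne_zero_of_finite
  have hmul : A₁.relIndex B * B.relIndex C₁ = A₁.relIndex C₁ := relIndex_mul_relIndex A₁ B C₁ hB1 hB2
  have h1 : 1 < A₁.relIndex B := by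
    rcases Nat.lt_or_ge 1 (A₁.relIndex B) with h' | h'
    · exact h'
    · exfalso
      have : A₁.relIndex B = 1 := le_antisymm h' (hpos _ _)
      exact hne1 (le_antisymm (relIndex_eq_one.1 this) hB1)
  have h2 : 1 < B.relIndex C₁ := by
    rcases Nat.lt_or_ge 1 (B.relIndex C₁) with h' | h'
    · exact h'
    · exfalso
      have : B.relIndex C₁ = 1 := le_antisymm h' (hpos _ _)
      exact hne2 (le_antisymm hB2 (relIndex_eq_one.1 this))
  have hn1 : ¬ ∃ x ∈ X, Odd (orderOf x) ∧ ∃ c ∈ B, c * x * c⁻¹ * x⁻¹ ∉ A₁ := by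
    intro hx
    have := hmin A₁ B ⟨h.le1, hB1, hB2.trans h.le3, h.n1, hBn, hx⟩
    rw [← hmul] at this
    have h3 := Nat.mul_lt_mul_of_pos_left h2 (hpos A₁ B)
    omega
  have hn2 : ¬ ∃ x ∈ X, Odd (orderOf x) ∧ ∃ c ∈ C₁, c * x * c⁻¹ * x⁻¹ ∉ B := by
    intro hx
    have := hmin B C₁ ⟨h.le1.trans hB1, hB2, h.le3, hBn, h.n2, hx⟩
    rw [← hmul] at this
    have h3 := Nat.mul_lt_mul_of_pos_right h1 (hpos B C₁)
    omega
  push Not at hn1 hn2
  obtain ⟨x, hx, hodd, c, hc, hcx⟩ := h.nt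
  apply hcx
  have hW : ∀ {y}, y ∈ C₁ → y ∈ W := fun hy => hCW (h.le3 hy)
  -- `x²` centralises `C₁ / A₁`
  have hsq : Cen X A₁ C₁ (x ^ 2) := by
    refine ⟨pow_mem hx 2, fun c hc => ?_⟩
    have d1 := hn2 x hx hodd c hc
    set d := c * x * c⁻¹ * x⁻¹ with hd
    have d2 := hn1 x hx hodd d d1
    have hdW : d ∈ W := hW (hB2 d1)
    have hcW : c ∈ W := hW hc
    have hxc : x * c * x⁻¹ ∈ W := hW ((mem_normalizer_iff.1 (h.n2 hx) c).1 hc)
    have hxc' : x * c⁻¹ * x⁻¹ ∈ W := hW ((mem_normalizer_iff.1 (h.n2 hx) _).1 (inv_mem hc))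
    have hxd : x * d⁻¹ * x⁻¹ ∈ W := hW (h.n2 hx |> fun t => (mem_normalizer_iff.1 t _).1 (inv_mem (hB2 d1)))
    -- `[c, x²] = d · x d x⁻¹ = (d x d⁻¹ x⁻¹)⁻¹ ...`
    have e1 : c * x ^ 2 * c⁻¹ * (x ^ 2)⁻¹ = d * (x * d * x⁻¹) := by
      rw [hd, pow_two]; group
    have hdd : d * d = 1 := hW2 d hdW
    have hdi : d⁻¹ = d := inv_eq_of_mul_eq_one_left hdd
    rw [e1]
    have e2 : d * (x * d * x⁻¹) = d * x * d⁻¹ * x⁻¹ := by
      conv_rhs => rw [hdi]
      group
    rw [e2]
    exact d2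
  obtain ⟨k, hk⟩ : ∃ k : ℕ, (x ^ 2) ^ k = x := by
    have : (orderOf x).Coprime 2 := Nat.coprime_two_right.2 hodd
    exact exists_pow_eq_self_of_coprime this.symm
  have := (cen_pow h.n1 hsq k).2 c hc
  rwa [hk] at this

/-- **`NoOv`**: no over-offender in the noncentral sections of `W`. -/
theorem noOv [Finite G] {T X W : Subgroup G} (hT : ChoiceSit.Syl T X) (hmin : IsMinPar T X)
    (hWc : ∀ x ∈ W, ∀ y ∈ W, x * y = y * x) (hW2 : ∀ x ∈ W, x * x = 1) : NoOv X W := by
  classical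
  intro A C K E hAK hKC hCW hAn hCn hnt hEX hE2 hKE
  have f2 : Fact (Nat.Prime 2) := ⟨Nat.prime_two⟩
  have h0 : MPair X A C A C := ⟨le_rfl, hAK.trans hKC, le_rfl, hAn, hCn, exists_odd_of hAn hnt⟩
  obtain ⟨A₁, C₁, h, hm⟩ := exists_min h0
  have hC1W : C₁ ≤ W := h.le3.trans hCW
  -- the Sylow subgroup and the maximal subgroup
  obtain ⟨M, hM⟩ := hmin.exists_isMin
  have hTp : IsPGroup 2 (T.subgroupOf X) := hT.2.1.comap_of_injective _ X.subtype_injective
  have hM' : IsMin ((hTp.toSylow (ChoiceSit.syl_not_dvd hT) : Sylow 2 X) : Subgroup X) M := hM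
  have hTM : (hTp.toSylow (ChoiceSit.syl_not_dvd hT) : Subgroup X) ≤ M := by
    refine hM'.le_of _ le_rfl fun htop => ?_
    apply hmin.not_le
    have h1 : X ≤ T := subgroupOf_eq_top.1 htop
    exact h1.trans le_normalizer
  -- the module
  have hnorm : (A₁.subgroupOf C₁).Normal := by
    refine ⟨fun n hn g => ?_⟩
    have e : g * n * g⁻¹ = n := Subtype.ext (by
      push_cast
      rw [hWc _ (hC1W g.2) _ (hC1W n.2), mul_inv_cancel_right])
    rwa [e]
  have hmapN : ∀ x : X, (A₁.subgroupOf C₁).map ((act h.n2 x : MulAut C₁).toMonoidHom) = A₁.subgroupOf C₁ := by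
    intro x
    ext c
    constructor
    · rintro ⟨d, hd, rfl⟩
      exact (mem_normalizer_iff.1 (h.n1 x.2) _).1 hd
    · intro hc
      refine ⟨⟨(x : G)⁻¹ * c * x, ?_⟩, ?_, ?_⟩
      · have := (mem_normalizer_iff.1 (h.n2 (inv_mem x.2)) _).1 c.2
        rwa [inv_inv] at this
      · have := (mem_normalizer_iff.1 (h.n1 (inv_mem x.2)) _).1 hc
        rw [inv_inv] at this
        exact this
      · apply Subtype.ext
        change (x : G) * ((x : G)⁻¹ * c * x) * (x : G)⁻¹ = c
        group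
  let φ : X →* MulAut (C₁ ⧸ A₁.subgroupOf C₁) := qAct (act h.n2) (A₁.subgroupOf C₁) hmapN
  have hφ : ∀ (x : X) (c : C₁), φ x (c : C₁ ⧸ A₁.subgroupOf C₁) = ((act h.n2 x c : C₁) : C₁ ⧸ A₁.subgroupOf C₁) :=
    fun x c => rfl
  have hcomm : ∀ v w : C₁ ⧸ A₁.subgroupOf C₁, v * w = w * v := by
    intro v w
    induction v using QuotientGroup.induction_on with
    | H v =>
      induction w using QuotientGroup.induction_on with
      | H w =>
        rw [← QuotientGroup.mk_mul, ← QuotientGroup.mk_mul]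
        congr 1
        exact Subtype.ext (hWc _ (hC1W v.2) _ (hC1W w.2))
  have hsq : ∀ v : C₁ ⧸ A₁.subgroupOf C₁, v * v = 1 := by
    intro v
    induction v using QuotientGroup.induction_on with
    | H v =>
      rw [← QuotientGroup.mk_mul]
      have : v * v = 1 := Subtype.ext (hW2 _ (hC1W v.2))
      rw [this]
      rfl
  have hirr : ∀ U : Subgroup (C₁ ⧸ A₁.subgroupOf C₁), (∀ x : X, ∀ u ∈ U, φ x u ∈ U) → U = ⊥ ∨ U = ⊤ := by
    intro U hU
    set B : Subgroup G := (U.comap (QuotientGroup.mk' (A₁.subgroupOf C₁))).map C₁.subtype with hB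
    have hBmem : ∀ c : C₁, (c : G) ∈ B ↔ (c : C₁ ⧸ A₁.subgroupOf C₁) ∈ U := by
      intro c
      constructor
      · rintro ⟨d, hd, hdc⟩
        have : d = c := Subtype.ext hdc
        rw [← this]
        exact hd
      · intro hc
        exact ⟨c, hc, rfl⟩
    have hBC : B ≤ C₁ := map_subtype_le _
    have hAB : A₁ ≤ B := by
      intro a ha
      have haC := h.le2 ha
      have : ((⟨a, haC⟩ : C₁) : C₁ ⧸ A₁.subgroupOf C₁) = 1 := (QuotientGroup.eq_one_iff _).2 ha
      exact (hBmem ⟨a, haC⟩).2 (this ▸ one_mem U)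
    have hBn : X ≤ normalizer (B : Set G) := by
      have key : ∀ x ∈ X, ∀ b ∈ B, x * b * x⁻¹ ∈ B := by
        intro x hx b hb
        have hbC := hBC hb
        have h1 := (hBmem ⟨b, hbC⟩).1 hb
        have h2 := hU ⟨x, hx⟩ _ h1
        rw [hφ] at h2
        exact (hBmem _).2 h2
      intro x hx
      rw [mem_normalizer_iff]
      intro b
      refine ⟨key x hx b, fun hb => ?_⟩
      have := key x⁻¹ (inv_mem hx) _ hb
      rwa [show x⁻¹ * (x * b * x⁻¹) * x⁻¹⁻¹ = b from by group] at this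
    rcases irr_of_min hW2 hCW h hm hAB hBC hBn with h1 | h1
    · left
      rw [eq_bot_iff]
      intro v hv
      obtain ⟨v, rfl⟩ := QuotientGroup.mk_surjective v
      have h2 := (hBmem v).2 hv
      rw [h1] at h2
      exact (QuotientGroup.eq_one_iff v).2 h2
    · right
      rw [eq_top_iff]
      intro v _
      obtain ⟨v, rfl⟩ := QuotientGroup.mk_surjective v
      exact (hBmem v).1 (h1.symm ▸ v.2)
  have hnt' : ∃ x : X, Odd (orderOf x) ∧ φ x ≠ 1 := by
    obtain ⟨x, hx, hodd, c, hc, hcx⟩ := h.nt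
    refine ⟨⟨x, hx⟩, by rwa [orderOf_mk], fun h1 => hcx ?_⟩
    have h2 : φ ⟨x, hx⟩ ((⟨c, hc⟩ : C₁) : C₁ ⧸ A₁.subgroupOf C₁) = ((⟨c, hc⟩ : C₁) : C₁ ⧸ A₁.subgroupOf C₁) := by
      rw [h1]; rfl
    rw [hφ, QuotientGroup.eq] at h2
    have h3 : (x * c * x⁻¹)⁻¹ * c ∈ A₁ := h2
    have e : c * x * c⁻¹ * x⁻¹ = (x * c * x⁻¹)⁻¹ * c := by
      have h4 : (x * c * x⁻¹)⁻¹ ∈ W := inv_mem (hC1W ((mem_normalizer_iff.1 (h.n2 hx) c).1 hc))
      rw [hWc _ h4 _ (hC1W hc)]
      group
    rwa [e]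
  have hEc : ∀ a ∈ E, ∀ b ∈ E, a * b = b * a := by
    intro a ha b hb
    have h1 := hE2 (a * b) (mul_mem ha hb)
    calc a * b = (a * b)⁻¹ := (inv_eq_of_mul_eq_one_left h1).symm
      _ = b⁻¹ * a⁻¹ := mul_inv_rev a b
      _ = b * a := by rw [inv_eq_of_mul_eq_one_left (hE2 a ha), inv_eq_of_mul_eq_one_left (hE2 b hb)]
  have hmain := noOver_of_irr φ hcomm hsq _ M hM' hTM hirr hnt' (E.subgroupOf X)
    (fun a ha b hb => Subtype.ext (hEc _ ha _ hb)) (fun a ha => Subtype.ext (hE2 _ ha))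
  -- left side
  have hl : (pCore 2 X).relIndex (E.subgroupOf X) = (o2 X).relIndex E := by
    have h1 : (o2 X).subgroupOf X = pCore 2 X :=
      comap_map_eq_self_of_injective X.subtype_injective _
    rw [← h1]
    exact relIndex_subgroupOf hEX
  rw [hl] at hmain
  refine hmain.trans ?_
  -- right side
  have h1 : (K.subgroupOf C₁).map (QuotientGroup.mk' (A₁.subgroupOf C₁)) ≤ fixV φ (E.subgroupOf X) := by
    rintro _ ⟨b, hb, rfl⟩
    rw [mem_fixV]
    intro e he
    change φ e (b : C₁ ⧸ A₁.subgroupOf C₁) = (b : C₁ ⧸ A₁.subgroupOf C₁)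
    rw [hφ, QuotientGroup.eq]
    have h2 : (b : G) * e * (b : G)⁻¹ * (e : G)⁻¹ ∈ A₁ := h.le1 (hKE _ hb _ he)
    change ((e : G) * b * (e : G)⁻¹)⁻¹ * b ∈ A₁
    have h4 : ((e : G) * b * (e : G)⁻¹)⁻¹ ∈ W := inv_mem (hC1W ((mem_normalizer_iff.1 (h.n2 e.2) _).1 b.2))
    rw [hWc _ h4 _ (hC1W b.2)]
    have e3 : (b : G) * ((e : G) * b * (e : G)⁻¹)⁻¹ = (b : G) * e * (b : G)⁻¹ * (e : G)⁻¹ := by group
    rwa [e3]
  have hne : ∀ (H : Subgroup (C₁ ⧸ A₁.subgroupOf C₁)), H.index ≠ 0 := fun H => Subgroup.index_ne_zero_of_finite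
  calc (fixV φ (E.subgroupOf X)).index
      ≤ ((K.subgroupOf C₁).map (QuotientGroup.mk' (A₁.subgroupOf C₁))).index := by
        have := relIndex_le_of_le_left (L := ⊤) h1 (by rw [relIndex_top_right]; exact hne _)
        rwa [relIndex_top_right, relIndex_top_right] at this
    _ ≤ (K.subgroupOf C₁).index := by
        have h3 := Subgroup.index_map_dvd (K.subgroupOf C₁) (QuotientGroup.mk'_surjective (A₁.subgroupOf C₁))
        exact Nat.le_of_dvd (Nat.pos_of_ne_zero Subgroup.index_ne_zero_of_finite) h3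
    _ = K.relIndex C₁ := rfl
    _ ≤ K.relIndex C := relIndex_le_of_le_right h.le3 Subgroup.index_ne_zero_of_finite

end main

end Cfsg.Agent.Omega.OmThm

end

section


/-!
# No over-offender in the noncentral sections (for groups acting as elementary abelian groups)

The theorems `noOver_of_irr`, `noOv` of `OmThm/NoOv.lean` (helper404) for a 2-subgroup `E` which acts as an elementary
abelian group (`W_F` of THEOREM FLAT is not elementary abelian itself).
-/

set_option autoImplicit false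
set_option linter.unusedSectionVars false

namespace Cfsg.Agent.Omega.NO1.WRF.NoOvQ

open Subgroup Cfsg.Agent.ZN Cfsg.Agent.Omega.FFBr Cfsg.Agent.Omega.OmThm
open Cfsg.Agent.MinSimple.MinParabolic (IsMin IsMinPar)
open Cfsg.Agent.ClassTwoFusion.Quad (cv mem_cv)
open scoped Pointwise commutatorElement

universe u

section abs

variable {X V : Type u} [Group X] [Finite X] [Group V] [Finite V]

/-- **No over-offender for an irreducible action of a minimal parabolic.** -/
theorem noOver_of_irrQ (φ : X →* MulAut V) (hcomm : ∀ v w : V, v * w = w * v) (hsq : ∀ v : V, v * v = 1)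
    (T : Sylow 2 X) (M : Subgroup X) (hM : IsMin (T : Subgroup X) M) (hTM : (T : Subgroup X) ≤ M)
    (irr : ∀ U : Subgroup V, (∀ x : X, ∀ u ∈ U, φ x u ∈ U) → U = ⊥ ∨ U = ⊤)
    (nt : ∃ x : X, Odd (orderOf x) ∧ φ x ≠ 1) (E : Subgroup X)
    (hE : ∀ a ∈ E, ∀ b ∈ E, φ a * φ b = φ b * φ a) (hE2 : ∀ a ∈ E, φ a * φ a = 1) (hE2' : IsPGroup 2 E) :
    (pCore 2 X).relIndex E ≤ (fixV φ E).index := by
  classical
  have f2 : Fact (Nat.Prime 2) := ⟨Nat.prime_two⟩
  obtain ⟨x₀, hx₀, hφ₀⟩ := nt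
  obtain ⟨v₀, hv₀⟩ : ∃ v : V, φ x₀ v ≠ v := by
    by_contra hcon
    push Not at hcon
    exact hφ₀ (MulEquiv.ext hcon)
  have hVne : ∃ v : V, v ≠ 1 := ⟨v₀, fun h => hv₀ (by rw [h, map_one])⟩
  -- the image
  set Y : Subgroup (MulAut V) := φ.range with hY
  let r : X →* Y := φ.rangeRestrict
  have hr : Function.Surjective r := φ.rangeRestrict_surjective
  have hsm : ∀ (x : X) (v : V), (r x • v : V) = φ x v := fun x v => rfl
  have hrk : ∀ x, r x = 1 ↔ φ x = 1 := fun x => by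
    rw [← MonoidHom.mem_ker, ← MonoidHom.mem_ker, MonoidHom.ker_rangeRestrict]
  have irrY : ∀ U : Subgroup V, (∀ y : Y, ∀ u ∈ U, (y • u : V) ∈ U) → U = ⊥ ∨ U = ⊤ := by
    intro U hU
    exact irr U fun x u hu => hU (r x) u hu
  -- `N T ≠ X` for `N = C_X(V)`
  have hker : r.ker ⊔ (T : Subgroup X) ≠ ⊤ := by
    intro h
    apply hφ₀
    rw [← hrk]
    have h1 : r x₀ ∈ (T : Subgroup X).map r := by
      have h2 : x₀ ∈ r.ker ⊔ (T : Subgroup X) := h ▸ mem_top x₀
      have h3 := mem_map_of_mem r h2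
      rw [Subgroup.map_sup] at h3
      have h4 : r.ker.map r = ⊥ := (Subgroup.map_eq_bot_iff _).2 le_rfl
      rwa [h4, bot_sup_eq] at h3
    obtain ⟨k, hk⟩ := (T.isPGroup'.map r) ⟨r x₀, h1⟩
    have hk' : (r x₀) ^ 2 ^ k = 1 := by
      have := congrArg Subtype.val hk
      simpa using this
    have h5 : orderOf (r x₀) ∣ 2 ^ k := orderOf_dvd_of_pow_eq_one hk'
    have h6 : orderOf (r x₀) ∣ orderOf x₀ := orderOf_map_dvd r x₀
    have h7 : Nat.Coprime (orderOf x₀) (2 ^ k) := Nat.Coprime.pow_right k (Nat.coprime_two_right.2 hx₀)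
    exact orderOf_eq_one_iff.1 (Nat.dvd_one.1 (h7 ▸ Nat.dvd_gcd h6 h5))
  have hkerM : r.ker ≤ M := le_sup_left.trans (hM.le_of _ le_sup_right hker)
  -- the abstract situation
  have hAbs : Abs Y V (T.mapSurjective hr) (M.map r) := by
    refine ⟨hcomm, hsq, fun y hy => ?_, fun N hN hN2 => ?_, ?_, ?_, fun K hK => ?_, fun W hW => ?_, ?_⟩
    · exact Subtype.ext (MulEquiv.ext hy)
    · -- `O₂(Y) = 1`
      obtain ⟨v, hv1, hv⟩ := exists_fixed_ne (Y := N) hN2 hsq hVne
      have h1 : cv V (N : Set Y) = ⊥ ∨ cv V (N : Set Y) = ⊤ := by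
        refine irrY _ fun y u hu => ?_
        rw [mem_cv] at hu ⊢
        intro a ha
        have h2 : y⁻¹ * a * y ∈ N := by
          have := hN.conj_mem a ha y⁻¹
          rwa [inv_inv] at this
        have h3 := hu _ h2
        calc a • y • u = y • (y⁻¹ * a * y) • u := by rw [← mul_smul, ← mul_smul]; congr 1; group
          _ = y • u := by rw [h3]
      rcases h1 with h1 | h1
      · exfalso
        apply hv1
        rw [← mem_bot, ← h1, mem_cv]
        exact fun a ha => hv ⟨a, ha⟩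
      · rw [eq_bot_iff]
        intro a ha
        rw [mem_bot]
        apply Subtype.ext
        apply MulEquiv.ext
        intro w
        have h2 : w ∈ cv V (N : Set Y) := h1 ▸ mem_top w
        exact h2 a ha
    · exact Subgroup.map_mono hTM
    · intro h
      apply hM.ne_top
      rw [eq_top_iff]
      have h1 := congrArg (Subgroup.comap r) h
      rw [Subgroup.comap_map_eq, Subgroup.comap_top, sup_eq_left.2 hkerM] at h1
      exact h1.ge
    · by_cases h : K.comap r = ⊤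
      · right
        rw [← Subgroup.map_comap_eq_self_of_surjective hr K, h]
        exact Subgroup.map_top_of_surjective r hr
      · left
        have h1 : (T : Subgroup X) ≤ K.comap r := by
          rw [← Subgroup.map_le_iff_le_comap]
          exact hK
        have h2 := hM.le_of _ h1 h
        rw [← Subgroup.map_comap_eq_self_of_surjective hr K]
        exact Subgroup.map_mono h2
    · -- generation
      let U : Subgroup V := closure {w | ∃ v : V, (∀ t ∈ (T.mapSurjective hr : Subgroup Y), t • v = v) ∧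
        ∃ y : Y, w = y • v}
      have hUW : U ≤ W := by
        rw [closure_le]
        rintro _ ⟨v, hv, y, rfl⟩
        exact hW v hv y
      have hT2 : IsPGroup 2 (T.mapSurjective hr : Subgroup Y) := (T.mapSurjective hr).isPGroup'
      obtain ⟨v, hv1, hv⟩ := exists_fixed_ne (Y := (T.mapSurjective hr : Subgroup Y)) hT2 hsq hVne
      have hU : U = ⊥ ∨ U = ⊤ := by
        refine irrY _ fun y u hu => ?_
        induction hu using closure_induction with
        | mem w hw =>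
          obtain ⟨v, hv, z, rfl⟩ := hw
          exact subset_closure ⟨v, hv, y * z, by rw [mul_smul]⟩
        | one => rw [smul_one]; exact one_mem _
        | mul a b _ _ ha hb => rw [smul_mul']; exact mul_mem ha hb
        | inv a _ ha => rw [smul_inv']; exact inv_mem ha
      rcases hU with hU | hU
      · exfalso
        apply hv1
        rw [← mem_bot, ← hU]
        exact subset_closure ⟨v, fun t ht => hv ⟨t, ht⟩, 1, by rw [one_smul]⟩
      · exact eq_top_iff.2 (hU ▸ hUW)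
    · -- not fixed
      by_contra hcon
      push Not at hcon
      have hT2 : IsPGroup 2 (T.mapSurjective hr : Subgroup Y) := (T.mapSurjective hr).isPGroup'
      obtain ⟨v, hv1, hv⟩ := exists_fixed_ne (Y := (T.mapSurjective hr : Subgroup Y)) hT2 hsq hVne
      have hvY : ∀ y : Y, y • v = v := hcon v fun t ht => hv ⟨t, ht⟩
      have h1 : cv V (Set.univ : Set Y) = ⊥ ∨ cv V (Set.univ : Set Y) = ⊤ := by
        refine irrY _ fun y u hu => ?_
        rw [mem_cv] at hu ⊢
        intro a _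
        rw [hu y (Set.mem_univ _), hu a (Set.mem_univ _)]
      rcases h1 with h1 | h1
      · apply hv1
        rw [← mem_bot, ← h1, mem_cv]
        exact fun a _ => hvY a
      · apply hv₀
        have h2 : v₀ ∈ cv V (Set.univ : Set Y) := h1 ▸ mem_top v₀
        exact h2 (r x₀) (Set.mem_univ _)
  -- no over-offender
  have hno : ANoOver Y V := by
    by_cases ho : ∃ A : Subgroup Y, AOff V A
    · exact (aStmt Y V _ _ hAbs ho).1
    · intro A hA hA2
      by_contra hlt
      push Not at hlt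
      refine ho ⟨A, hA, hA2, ?_, hlt.le⟩
      rintro rfl
      rw [Subgroup.card_bot] at hlt
      have := Nat.pos_of_ne_zero (Subgroup.index_ne_zero_of_finite (H := cv V ((⊥ : Subgroup Y) : Set Y)))
      omega
  have h1 := hno (E.map r) (by
    rintro _ ⟨a, ha, rfl⟩ _ ⟨b, hb, rfl⟩
    exact Subtype.ext (hE a ha b hb)) (by
    rintro _ ⟨a, ha, rfl⟩
    exact Subtype.ext (hE2 a ha))
  have h2 : cv V ((E.map r : Subgroup Y) : Set Y) = fixV φ E := by
    ext v
    rw [mem_cv, mem_fixV]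
    constructor
    · intro h e he
      exact h (r e) ⟨e, he, rfl⟩
    · rintro h _ ⟨e, he, rfl⟩
      exact h e he
  rw [h2] at h1
  refine le_trans ?_ h1
  -- `E ∩ C_X(V) ≤ O₂(X)`
  have hTk : (T : Subgroup X) ⊓ r.ker ≤ pCore 2 X :=
    (MinSimple.MinParabolic.sup_eq_top_or_inf_le hM r.ker).resolve_left hker
  have hEk : E ⊓ r.ker ≤ pCore 2 X := by
    obtain ⟨Q, hQ⟩ := hE2'.exists_le_sylow
    obtain ⟨g, hg⟩ := MulAction.exists_smul_eq X T Q
    rintro e ⟨he, hek⟩
    have h3 : e ∈ (Q : Subgroup X) := hQ he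
    rw [← hg, Sylow.coe_subgroup_smul, mem_pointwise_smul_iff_inv_smul_mem, MulAut.smul_def, ← map_inv,
      MulAut.conj_apply, inv_inv] at h3
    have h4 : g⁻¹ * e * g ∈ r.ker := by
      have := (inferInstance : r.ker.Normal).conj_mem e hek g⁻¹
      rwa [inv_inv] at this
    have hn : (pCore 2 X).Normal := Lib.Cores.pCore_normal 2
    have h5 := hn.conj_mem _ (hTk ⟨h3, h4⟩) g
    rwa [show g * (g⁻¹ * e * g) * g⁻¹ = e from by group] at h5
  have h3 : (pCore 2 X).relIndex E ≤ r.ker.relIndex E := by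
    rw [← inf_relIndex_left E r.ker]
    exact relIndex_le_of_le_left hEk (Subgroup.index_ne_zero_of_finite)
  rw [relIndex_ker] at h3
  exact h3

end abs

section main

variable {G : Type u} [Group G]

/-- **No over-offender in the noncentral sections of `W`**, for 2-subgroups `E` which act on `C` as elementary abelian
groups. -/
theorem noOvQ [Finite G] {T X W : Subgroup G} (hT : ChoiceSit.Syl T X) (hmin : IsMinPar T X)
    (hWc : ∀ x ∈ W, ∀ y ∈ W, x * y = y * x) (hW2 : ∀ x ∈ W, x * x = 1) {A C K E : Subgroup G} (hAK : A ≤ K)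
    (hKC : K ≤ C) (hCW : C ≤ W) (hAn : X ≤ normalizer (A : Set G)) (hCn : X ≤ normalizer (C : Set G))
    (hnt : ∃ c ∈ C, ∃ x ∈ MinSimple.VModule.oddGen X, c * x * c⁻¹ * x⁻¹ ∉ A) (hEX : E ≤ X) (hE2 : IsPGroup 2 E)
    (hEab : ∀ s ∈ E, ∀ t ∈ E, ∀ v ∈ C, s * (t * v * t⁻¹) * s⁻¹ = t * (s * v * s⁻¹) * t⁻¹)
    (hEinv : ∀ s ∈ E, ∀ v ∈ C, s * (s * v * s⁻¹) * s⁻¹ = v)
    (hKE : ∀ b ∈ K, ∀ e ∈ E, b * e * b⁻¹ * e⁻¹ ∈ A) : (o2 X).relIndex E ≤ K.relIndex C := by
  classical
  have f2 : Fact (Nat.Prime 2) := ⟨Nat.prime_two⟩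
  have h0 : MPair X A C A C := ⟨le_rfl, hAK.trans hKC, le_rfl, hAn, hCn, exists_odd_of hAn hnt⟩
  obtain ⟨A₁, C₁, h, hm⟩ := exists_min h0
  have hC1W : C₁ ≤ W := h.le3.trans hCW
  -- the Sylow subgroup and the maximal subgroup
  obtain ⟨M, hM⟩ := hmin.exists_isMin
  have hTp : IsPGroup 2 (T.subgroupOf X) := hT.2.1.comap_of_injective _ X.subtype_injective
  have hM' : IsMin ((hTp.toSylow (ChoiceSit.syl_not_dvd hT) : Sylow 2 X) : Subgroup X) M := hM
  have hTM : (hTp.toSylow (ChoiceSit.syl_not_dvd hT) : Subgroup X) ≤ M := by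
    refine hM'.le_of _ le_rfl fun htop => ?_
    apply hmin.not_le
    have h1 : X ≤ T := subgroupOf_eq_top.1 htop
    exact h1.trans le_normalizer
  -- the module
  have hnorm : (A₁.subgroupOf C₁).Normal := by
    refine ⟨fun n hn g => ?_⟩
    have e : g * n * g⁻¹ = n := Subtype.ext (by
      push_cast
      rw [hWc _ (hC1W g.2) _ (hC1W n.2), mul_inv_cancel_right])
    rwa [e]
  have hmapN : ∀ x : X, (A₁.subgroupOf C₁).map ((act h.n2 x : MulAut C₁).toMonoidHom) = A₁.subgroupOf C₁ := by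
    intro x
    ext c
    constructor
    · rintro ⟨d, hd, rfl⟩
      exact (mem_normalizer_iff.1 (h.n1 x.2) _).1 hd
    · intro hc
      refine ⟨⟨(x : G)⁻¹ * c * x, ?_⟩, ?_, ?_⟩
      · have := (mem_normalizer_iff.1 (h.n2 (inv_mem x.2)) _).1 c.2
        rwa [inv_inv] at this
      · have := (mem_normalizer_iff.1 (h.n1 (inv_mem x.2)) _).1 hc
        rw [inv_inv] at this
        exact this
      · apply Subtype.ext
        change (x : G) * ((x : G)⁻¹ * c * x) * (x : G)⁻¹ = c
        group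
  let φ : X →* MulAut (C₁ ⧸ A₁.subgroupOf C₁) := qAct (act h.n2) (A₁.subgroupOf C₁) hmapN
  have hφ : ∀ (x : X) (c : C₁), φ x (c : C₁ ⧸ A₁.subgroupOf C₁) = ((act h.n2 x c : C₁) : C₁ ⧸ A₁.subgroupOf C₁) :=
    fun x c => rfl
  have hcomm : ∀ v w : C₁ ⧸ A₁.subgroupOf C₁, v * w = w * v := by
    intro v w
    induction v using QuotientGroup.induction_on with
    | H v =>
      induction w using QuotientGroup.induction_on with
      | H w =>
        rw [← QuotientGroup.mk_mul, ← QuotientGroup.mk_mul]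
        congr 1
        exact Subtype.ext (hWc _ (hC1W v.2) _ (hC1W w.2))
  have hsq : ∀ v : C₁ ⧸ A₁.subgroupOf C₁, v * v = 1 := by
    intro v
    induction v using QuotientGroup.induction_on with
    | H v =>
      rw [← QuotientGroup.mk_mul]
      have : v * v = 1 := Subtype.ext (hW2 _ (hC1W v.2))
      rw [this]
      rfl
  have hirr : ∀ U : Subgroup (C₁ ⧸ A₁.subgroupOf C₁), (∀ x : X, ∀ u ∈ U, φ x u ∈ U) → U = ⊥ ∨ U = ⊤ := by
    intro U hU
    set B : Subgroup G := (U.comap (QuotientGroup.mk' (A₁.subgroupOf C₁))).map C₁.subtype with hB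
    have hBmem : ∀ c : C₁, (c : G) ∈ B ↔ (c : C₁ ⧸ A₁.subgroupOf C₁) ∈ U := by
      intro c
      constructor
      · rintro ⟨d, hd, hdc⟩
        have : d = c := Subtype.ext hdc
        rw [← this]
        exact hd
      · intro hc
        exact ⟨c, hc, rfl⟩
    have hBC : B ≤ C₁ := map_subtype_le _
    have hAB : A₁ ≤ B := by
      intro a ha
      have haC := h.le2 ha
      have : ((⟨a, haC⟩ : C₁) : C₁ ⧸ A₁.subgroupOf C₁) = 1 := (QuotientGroup.eq_one_iff _).2 ha
      exact (hBmem ⟨a, haC⟩).2 (this ▸ one_mem U)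
    have hBn : X ≤ normalizer (B : Set G) := by
      have key : ∀ x ∈ X, ∀ b ∈ B, x * b * x⁻¹ ∈ B := by
        intro x hx b hb
        have hbC := hBC hb
        have h1 := (hBmem ⟨b, hbC⟩).1 hb
        have h2 := hU ⟨x, hx⟩ _ h1
        rw [hφ] at h2
        exact (hBmem _).2 h2
      intro x hx
      rw [mem_normalizer_iff]
      intro b
      refine ⟨key x hx b, fun hb => ?_⟩
      have := key x⁻¹ (inv_mem hx) _ hb
      rwa [show x⁻¹ * (x * b * x⁻¹) * x⁻¹⁻¹ = b from by group] at this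
    rcases irr_of_min hW2 hCW h hm hAB hBC hBn with h1 | h1
    · left
      rw [eq_bot_iff]
      intro v hv
      obtain ⟨v, rfl⟩ := QuotientGroup.mk_surjective v
      have h2 := (hBmem v).2 hv
      rw [h1] at h2
      exact (QuotientGroup.eq_one_iff v).2 h2
    · right
      rw [eq_top_iff]
      intro v _
      obtain ⟨v, rfl⟩ := QuotientGroup.mk_surjective v
      exact (hBmem v).1 (h1.symm ▸ v.2)
  have hnt' : ∃ x : X, Odd (orderOf x) ∧ φ x ≠ 1 := by
    obtain ⟨x, hx, hodd, c, hc, hcx⟩ := h.nt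
    refine ⟨⟨x, hx⟩, by rwa [orderOf_mk], fun h1 => hcx ?_⟩
    have h2 : φ ⟨x, hx⟩ ((⟨c, hc⟩ : C₁) : C₁ ⧸ A₁.subgroupOf C₁) = ((⟨c, hc⟩ : C₁) : C₁ ⧸ A₁.subgroupOf C₁) := by
      rw [h1]; rfl
    rw [hφ, QuotientGroup.eq] at h2
    have h3 : (x * c * x⁻¹)⁻¹ * c ∈ A₁ := h2
    have e : c * x * c⁻¹ * x⁻¹ = (x * c * x⁻¹)⁻¹ * c := by
      have h4 : (x * c * x⁻¹)⁻¹ ∈ W := inv_mem (hC1W ((mem_normalizer_iff.1 (h.n2 hx) c).1 hc))
      rw [hWc _ h4 _ (hC1W hc)]
      group
    rwa [e]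
  have hmain := noOver_of_irrQ φ hcomm hsq _ M hM' hTM hirr hnt' (E.subgroupOf X)
    (fun a ha b hb => by
      apply MulEquiv.ext
      intro q
      obtain ⟨v, rfl⟩ := QuotientGroup.mk_surjective q
      rw [MulAut.mul_apply, MulAut.mul_apply, hφ, hφ, hφ, hφ]
      congr 1
      exact Subtype.ext (hEab _ ha _ hb _ (h.le3 v.2)))
    (fun a ha => by
      apply MulEquiv.ext
      intro q
      obtain ⟨v, rfl⟩ := QuotientGroup.mk_surjective q
      rw [MulAut.mul_apply, hφ, hφ, MulAut.one_apply]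
      congr 1
      exact Subtype.ext (hEinv _ ha _ (h.le3 v.2)))
    (hE2.comap_of_injective _ X.subtype_injective)
  -- left side
  have hl : (pCore 2 X).relIndex (E.subgroupOf X) = (o2 X).relIndex E := by
    have h1 : (o2 X).subgroupOf X = pCore 2 X :=
      comap_map_eq_self_of_injective X.subtype_injective _
    rw [← h1]
    exact relIndex_subgroupOf hEX
  rw [hl] at hmain
  refine hmain.trans ?_
  -- right side
  have h1 : (K.subgroupOf C₁).map (QuotientGroup.mk' (A₁.subgroupOf C₁)) ≤ fixV φ (E.subgroupOf X) := by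
    rintro _ ⟨b, hb, rfl⟩
    rw [mem_fixV]
    intro e he
    change φ e (b : C₁ ⧸ A₁.subgroupOf C₁) = (b : C₁ ⧸ A₁.subgroupOf C₁)
    rw [hφ, QuotientGroup.eq]
    have h2 : (b : G) * e * (b : G)⁻¹ * (e : G)⁻¹ ∈ A₁ := h.le1 (hKE _ hb _ he)
    change ((e : G) * b * (e : G)⁻¹)⁻¹ * b ∈ A₁
    have h4 : ((e : G) * b * (e : G)⁻¹)⁻¹ ∈ W := inv_mem (hC1W ((mem_normalizer_iff.1 (h.n2 e.2) _).1 b.2))
    rw [hWc _ h4 _ (hC1W b.2)]
    have e3 : (b : G) * ((e : G) * b * (e : G)⁻¹)⁻¹ = (b : G) * e * (b : G)⁻¹ * (e : G)⁻¹ := by group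
    rwa [e3]
  have hne : ∀ (H : Subgroup (C₁ ⧸ A₁.subgroupOf C₁)), H.index ≠ 0 := fun H => Subgroup.index_ne_zero_of_finite
  calc (fixV φ (E.subgroupOf X)).index
      ≤ ((K.subgroupOf C₁).map (QuotientGroup.mk' (A₁.subgroupOf C₁))).index := by
        have := relIndex_le_of_le_left (L := ⊤) h1 (by rw [relIndex_top_right]; exact hne _)
        rwa [relIndex_top_right, relIndex_top_right] at this
    _ ≤ (K.subgroupOf C₁).index := by
        have h3 := Subgroup.index_map_dvd (K.subgroupOf C₁) (QuotientGroup.mk'_surjective (A₁.subgroupOf C₁))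
        exact Nat.le_of_dvd (Nat.pos_of_ne_zero Subgroup.index_ne_zero_of_finite) h3
    _ = K.relIndex C₁ := rfl
    _ ≤ K.relIndex C := relIndex_le_of_le_right h.le3 Subgroup.index_ne_zero_of_finite

end main

end Cfsg.Agent.Omega.NO1.WRF.NoOvQ

end
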